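import Mathlib.AlgebraicGeometry.Morphisms.Immersion

/-!
# Separated morphisms which are immersions on dense opens
-/

set_option autoImplicit false
set_option linter.style.haveILetI false

universe u

namespace Groth.Agent.DenseImm

open AlgebraicGeometry CategoryTheory Limits

variable {X Y : Scheme.{u}} (f : X ⟶ Y) [IsSeparated f]

theorem exists_open_restrict (U : X.Opens) (hd : Dense (U : Set X)) [IsImmersion (U.ι ≫ f)] :
    ∃ (V : Y.Opens) (j : U.toScheme ⟶ (f ⁻¹ᵁ V).toScheme), IsIso j ∧ f ⁻¹ᵁ V = U ∧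
      (j ≫ f ∣_ V) ≫ V.ι = U.ι ≫ f ∧ IsClosedImmersion (j ≫ f ∣_ V) := by
  let V := (U.ι ≫ f).coborderRange
  have hle : U ≤ f ⁻¹ᵁ V := fun x hx => by
    have h : (U.ι ≫ f) ⟨x, hx⟩ ∈ V := subset_coborder ⟨_, rfl⟩
    exact h
  let j := X.homOfLE hle
  have e : (j ≫ f ∣_ V) ≫ V.ι = U.ι ≫ f := by
    rw [Category.assoc, morphismRestrict_ι, Scheme.homOfLE_ι_assoc]
  have hcl : IsClosedImmersion (j ≫ f ∣_ V) := by
    have : j ≫ f ∣_ V = (U.ι ≫ f).liftCoborder := by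
      rw [← cancel_mono V.ι, e]
      exact ((U.ι ≫ f).liftCoborder_ι).symm
    rw [this]; infer_instance
  haveI : IsClosedImmersion j := IsClosedImmersion.of_comp j (f ∣_ V)
  have hr : Set.range j = Set.univ := by
    have hdd : Dense ((f ⁻¹ᵁ V).ι ⁻¹' (U : Set X)) := hd.preimage (f ⁻¹ᵁ V).ι.isOpenEmbedding.isOpenMap
    have hsub : (f ⁻¹ᵁ V).ι ⁻¹' (U : Set X) ⊆ Set.range j := fun w hw => ⟨⟨_, hw⟩, (f ⁻¹ᵁ V).ι.isOpenEmbedding.injective (by
      rw [← Scheme.Hom.comp_apply, Scheme.homOfLE_ι]; rfl)⟩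
    exact Set.univ_subset_iff.mp (hdd.closure_eq ▸ closure_minimal hsub j.isClosedEmbedding.isClosed_range)
  haveI : Surjective j := ⟨Set.range_eq_univ.mp hr⟩
  have hV : f ⁻¹ᵁ V = U := by
    refine le_antisymm (fun x hx => ?_) hle
    obtain ⟨u, hu⟩ := j.surjective ⟨x, hx⟩
    have h2 : (f ⁻¹ᵁ V).ι (j u) = x := by rw [hu]; rfl
    rw [← h2, ← Scheme.Hom.comp_apply, Scheme.homOfLE_ι]
    exact u.2
  exact ⟨V, j, (isIso_iff_isOpenImmersion_and_epi_base j).mpr
    ⟨inferInstance, (TopCat.epi_iff_surjective _).mpr j.surjective⟩, hV, e, hcl⟩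

theorem of_dense_cover (P : MorphismProperty Scheme.{u}) [IsZariskiLocalAtTarget P]
    (hP : ∀ {A B C : Scheme.{u}} (a : A ⟶ B) (b : B ⟶ C) [IsOpenImmersion b], P (a ≫ b) → IsClosedImmersion a → P a)
    (hW : ∀ {A : Scheme.{u}} (W : Y.Opens) (a : A ⟶ W.toScheme), P a → P (a ≫ W.ι))
    {ι : Type u} (U : ι → X.Opens) (hU : ⨆ i, U i = ⊤) (hd : ∀ i, Dense (U i : Set X))
    (h : ∀ i, IsImmersion ((U i).ι ≫ f)) (h' : ∀ i, P ((U i).ι ≫ f)) : P f := by
  choose V j hj hV e hc using fun i => haveI := h i; exists_open_restrict f (U i) (hd i)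
  let W : Y.Opens := ⨆ i, V i
  have hres : ∀ i, P (f ∣_ V i) := fun i => by
    haveI := hj i
    refine (MorphismProperty.cancel_left_of_respectsIso P (j i) _).mp ?_
    exact hP _ (V i).ι (by rw [e i]; exact h' i) (hc i)
  have hfW : P (f ∣_ W) := by
    refine (IsZariskiLocalAtTarget.iff_of_iSup_eq_top (P := P) (fun i => W.ι ⁻¹ᵁ V i) ?_).mpr fun i => ?_
    · rw [← Scheme.Hom.preimage_iSup, Scheme.Opens.ι_preimage_self]
    · refine (P.arrow_mk_iso_iff (morphismRestrictRestrict f W _)).mpr ?_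
      have : W.ι ''ᵁ (W.ι ⁻¹ᵁ V i) = V i := by
        rw [Scheme.Hom.image_preimage_eq_opensRange_inf, Scheme.Opens.opensRange_ι, inf_eq_right]
        exact le_iSup V i
      exact (P.arrow_mk_iso_iff (morphismRestrictEq f this)).mpr (hres i)
  have H : f ⁻¹ᵁ W = ⊤ := by
    rw [Scheme.Hom.preimage_iSup, show (fun i => f ⁻¹ᵁ V i) = U from funext hV, hU]
  have := hW W _ hfW
  rwa [morphismRestrict_ι, H, ← Scheme.topIso_hom, MorphismProperty.cancel_left_of_respectsIso P] at this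

end Groth.Agent.DenseImm
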